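import Cfsg.Agent.H899.Cyc.IGap
import Cfsg.Agent.H264.FKS.Res

/-!
# From `CycW` to `Cyc` for the named groups of Lie type (helper899)

`cyc_of_weak` : a prime `u ≥ 5` with `CycW S u`, not dividing the field exponent (`NDF (fld g) u`) and, for `PSL_n(q)`
(`PSU_n(q)`) not dividing `q - 1` (`q + 1`), is prime to `|Out S|`, so `Cyc S u`.
-/

set_option autoImplicit false

namespace Cfsg.Agent.H899.CG

open Subgroup Cfsg Cfsg.Agent.OrdDiv Cfsg.Agent.H436 Cfsg.Agent.H264.FKS Cfsg.Agent.H915.GN Cfsg.Agent.H902 Cfsg.Agent.H902.Names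

universe u

/-- what has to be checked for the diagonal automorphisms -/
def NoDiag (s : ℕ) : Grp → Prop
  | .psl _ q => ¬ s ∣ q - 1
  | .psu _ q => ¬ s ∣ q + 1
  | _ => True

theorem index_inn (T : Type u) [Group T] :
    (MulAut.conj : T →* MulAut T).range.index = Nat.card (Cfsg.Out T) := rfl

theorem not_dvd_dd {g : Grp} {X : Art.Sh} {p f s : ℕ} (hg : IsLie g X p f) (hfld : fld g = p ^ f) (hs : s.Prime)
    (h5 : 5 ≤ s) (hd : NoDiag s g) : ¬ s ∣ Art.dd X (p ^ f) := by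
  have h4 : ∀ {a b : ℕ}, a ≤ 4 → 0 < a → s ∣ Nat.gcd a b → False := fun h1 h2 h3 => by
    have := Nat.le_of_dvd h2 (h3.trans (Nat.gcd_dvd_left _ _))
    omega
  have h1 : ¬ s ∣ 1 := fun h => by
    have := Nat.dvd_one.1 h
    omega
  intro h
  cases hg with
  | psl n p f =>
    have h2 : ¬ s ∣ p ^ f - 1 := by
      have : fld (.psl n (p ^ f)) = p ^ f := rfl
      exact hd
    exact h2 ((show s ∣ Nat.gcd n (p ^ f - 1) from h).trans (Nat.gcd_dvd_right _ _))
  | psu n p f =>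
    have h2 : ¬ s ∣ p ^ f + 1 := hd
    exact h2 ((show s ∣ Nat.gcd n (p ^ f + 1) from h).trans (Nat.gcd_dvd_right _ _))
  | _ => first | exact h1 h | exact h4 (by norm_num) (by norm_num) h

/-- **From `CycW` to `Cyc`.** -/
theorem cyc_of_weak {g : Grp} {p s : ℕ} {S : Type u} [Group S] [Finite S] [IsSimpleGroup S]
    (hna : ¬ ∀ a b : S, a * b = b * a) (hp : p.Prime) (hn : IsNamed g S) (hch : HasChar p g) (h5 : 5 ≤ s)
    (hndf : NDF (fld g) s) (hdiag : NoDiag s g) (h : CycW S s) : Cyc S s := by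
  refine ⟨h, Or.inl ?_⟩
  have hs := h.1
  rw [index_inn]
  obtain ⟨X, f₁, h1, h2, h3⟩ := exists_lie hp hn hch
  obtain ⟨c, h4, h6, -⟩ := H364.OutLie.card_out hna h1 hn.real h2
  rw [h4]
  intro hd
  rcases hs.dvd_mul.1 hd with h7 | h7
  · rcases hs.dvd_mul.1 (h7.trans h6) with h8 | h8
    · have h9 : s ∣ 2 ^ 3 * 3 := h8
      rcases hs.dvd_mul.1 h9 with h10 | h10
      · have := Nat.le_of_dvd (by norm_num) (hs.dvd_of_dvd_pow h10)
        omega
      · have := Nat.le_of_dvd (by norm_num) h10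
        omega
    · exact not_dvd_dd h1 h3 hs h5 hdiag h8
  · exact hndf p f₁ hp h3 h7

end Cfsg.Agent.H899.CG
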