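import Cfsg.Agent.H899.Cyc.IGap

/-!
# Factorizations `T = A B` with `A ≅ S^l`, `l ≥ 2` (helper899, S3679)

* `Fac T A B S l` : `A ≅ S^l`, `l ≥ 2`, `B ≠ ⊤`, every element of `T` is a product `x y`, `x ∈ A`, `y ∈ B`;
* `NoFac T` : no such factorization with `B` a coatom, `S` simple non-abelian (`S : Type`, `T : Type`);
* `Fac.mono`, `Fac.congr`, `Fac.index_dvd`, `Fac.not_dvd`, `Fac.pow_dvd`, `Fac.not_iGap`, `Fac.conj`, `Fac.exists_hom`;
* `noFac_of_iGap`, `noFac_iff`, `NoFac.congr`.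
-/

set_option autoImplicit false

namespace Cfsg.Agent.H899.CG

open Subgroup Cfsg.Agent.H436

/-- a factorization `T = A B` with `A ≅ S^l`, `l ≥ 2`, and `B` proper -/
structure Fac (T : Type*) [Group T] (A B : Subgroup T) (S : Type*) [Group S] (l : ℕ) : Prop where
  two_le : 2 ≤ l
  iso : Nonempty (A ≃* (Fin l → S))
  ne_top : B ≠ ⊤
  fac : ∀ t : T, ∃ x ∈ A, ∃ y ∈ B, t = x * y

/-- `T` has no factorization `T = A M`, `A ≅ S^l`, `l ≥ 2`, `S` non-abelian simple, `M` a coatom -/
def NoFac (T : Type) [Group T] : Prop :=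
  ∀ (S : Type) [Group S] [Finite S], IsSimpleGroup S → (¬ IsMulCommutative S) →
    ∀ (A M : Subgroup T) (l : ℕ), IsCoatom M → ¬ Fac T A M S l

section basic

variable {T : Type*} [Group T] {A B M : Subgroup T} {S : Type*} [Group S] {l : ℕ}

theorem Fac.mono (h : Fac T A B S l) (hBM : B ≤ M) (hM : M ≠ ⊤) : Fac T A M S l :=
  ⟨h.two_le, h.iso, hM, fun t => by
    obtain ⟨x, hx, y, hy, ht⟩ := h.fac t
    exact ⟨x, hx, y, hBM hy, ht⟩⟩

theorem Fac.card_eq [Finite S] (h : Fac T A B S l) : Nat.card A = Nat.card S ^ l := by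
  obtain ⟨e⟩ := h.iso
  rw [Nat.card_congr e.toEquiv, Nat.card_pi]
  simp only [Finset.prod_const, Finset.card_univ, Fintype.card_fin]

theorem Fac.index_dvd_card (h : Fac T A B S l) : B.index ∣ Nat.card A := card_dvd_mul_of_fac h.fac

theorem Fac.index_dvd [Finite S] (h : Fac T A B S l) : B.index ∣ Nat.card S ^ l := by
  rw [← h.card_eq]
  exact h.index_dvd_card

theorem Fac.pow_dvd_card [Finite S] (h : Fac T A B S l) : Nat.card S ^ l ∣ Nat.card T := by
  rw [← h.card_eq]
  exact A.card_subgroup_dvd_card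

/-- the order of `T` in terms of `A`, `B` and the intersection -/
theorem Fac.card_mul [Finite T] (h : Fac T A B S l) :
    Nat.card T * Nat.card (A ⊓ B : Subgroup T) = Nat.card A * Nat.card B := by
  have h3 : (B.subgroupOf A).index = B.index := by
    have h4 : MulAction.orbit A ((1 : T) : T ⧸ B) = Set.univ := by
      ext z
      simp only [Set.mem_univ, iff_true]
      induction z using QuotientGroup.induction_on with
      | H t =>
        obtain ⟨x, hx, y, hy, rfl⟩ := h.fac t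
        refine ⟨⟨x, hx⟩, ?_⟩
        show ((x • (1 : T) : T) : T ⧸ B) = _
        rw [smul_eq_mul, mul_one]
        exact QuotientGroup.eq.mpr (by simpa using hy)
    have h5 : MulAction.stabilizer A ((1 : T) : T ⧸ B) = B.subgroupOf A := by
      ext a
      rw [MulAction.mem_stabilizer_iff, Subgroup.mem_subgroupOf]
      show (((a : T) • (1 : T) : T) : T ⧸ B) = _ ↔ _
      rw [smul_eq_mul, mul_one, eq_comm, QuotientGroup.eq, inv_one, one_mul]
    rw [← h5, MulAction.index_stabilizer, h4, Set.ncard_univ]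
    rfl
  have h6 := Subgroup.card_mul_index (B.subgroupOf A)
  have h7 : Nat.card (B.subgroupOf A) = Nat.card (A ⊓ B : Subgroup T) := by
    have h8 : (B.subgroupOf A).map A.subtype = A ⊓ B := by
      rw [Subgroup.subgroupOf_map_subtype, inf_comm]
    rw [← h8, Subgroup.card_map_of_injective A.subtype_injective]
  rw [h7, h3] at h6
  rw [← Subgroup.card_mul_index B, ← h6]
  ring

/-- a cyclic prime does not divide `|S|` -/
theorem Fac.not_dvd [Finite S] (h : Fac T A B S l) {u : ℕ} (hu : CycW T u) : ¬ u ∣ Nat.card S := by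
  obtain ⟨e⟩ := h.iso
  intro hd
  refine hu.not_dvd_of_pow h.two_le e ?_
  rw [h.card_eq]
  exact hd.trans (dvd_pow_self _ (by have := h.two_le; omega))

theorem Fac.not_dvd_index [Finite S] (h : Fac T A B S l) {u : ℕ} (hu : CycW T u) : ¬ u ∣ B.index := fun hd =>
  h.not_dvd hu (hu.1.dvd_of_dvd_pow (hd.trans h.index_dvd))

theorem Fac.pow_dvd [Finite S] (h : Fac T A B S l) {u k : ℕ} (hu : CycW T u) (hk : u ^ k ∣ Nat.card T) :
    u ^ k ∣ Nat.card B := by
  rw [← Subgroup.card_mul_index B] at hk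
  exact (Nat.Coprime.pow_left k ((Nat.Prime.coprime_iff_not_dvd hu.1).mpr (h.not_dvd_index hu))).dvd_of_dvd_mul_right hk

theorem Fac.dvd [Finite S] (h : Fac T A B S l) {u : ℕ} (hu : CycW T u) : u ∣ Nat.card B := by
  have := h.pow_dvd hu (k := 1) (by rw [pow_one]; exact hu.2.1)
  rwa [pow_one] at this

theorem Fac.not_iGap [Finite S] (h : Fac T A B S l) : ¬ IGap T B := by
  rintro ⟨u, hu, hd⟩
  exact h.not_dvd_index hu.1 hd

theorem Fac.not_cGap [Finite S] (h : Fac T A B S l) : ¬ CGap T B := fun hg => h.not_iGap hg.iGap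

theorem Fac.not_cGapW [Finite S] (h : Fac T A B S l) : ¬ CGapW T B := by
  rintro ⟨u, hu, hd⟩
  exact hd (h.dvd hu)

theorem Fac.congr {T' : Type*} [Group T'] (e : T ≃* T') (h : Fac T A B S l) :
    Fac T' (A.map e.toMonoidHom) (B.map e.toMonoidHom) S l := by
  refine ⟨h.two_le, ?_, fun ht => h.ne_top ?_, fun t => ?_⟩
  · obtain ⟨f⟩ := h.iso
    exact ⟨(A.equivMapOfInjective e.toMonoidHom e.injective).symm.trans f⟩
  · rw [eq_top_iff]
    intro x _
    have h1 : e x ∈ B.map e.toMonoidHom := by rw [ht]; trivial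
    obtain ⟨y, hy, hyx⟩ := h1
    rwa [← e.injective hyx]
  · obtain ⟨x, hx, y, hy, h1⟩ := h.fac (e.symm t)
    exact ⟨e x, ⟨x, hx, rfl⟩, e y, ⟨y, hy, rfl⟩, by rw [← map_mul, ← h1, MulEquiv.apply_symm_apply]⟩

theorem Fac.congr_right {S' : Type*} [Group S'] (e : S ≃* S') (h : Fac T A B S l) : Fac T A B S' l := by
  obtain ⟨f⟩ := h.iso
  exact ⟨h.two_le, ⟨f.trans (MulEquiv.piCongrRight fun _ => e)⟩, h.ne_top, h.fac⟩

/-- the factorization with a conjugate of `B` -/
theorem Fac.conj (h : Fac T A B S l) (g : T) : Fac T A (B.map (MulAut.conj g).toMonoidHom) S l := by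
  refine ⟨h.two_le, h.iso, fun ht => h.ne_top ?_, fun t => ?_⟩
  · rw [eq_top_iff]
    intro x _
    have h1 : (MulAut.conj g) x ∈ B.map (MulAut.conj g).toMonoidHom := by rw [ht]; trivial
    obtain ⟨y, hy, hyx⟩ := h1
    rwa [← (MulAut.conj g).injective hyx]
  · obtain ⟨a, ha, b, hb, hg⟩ := h.fac g
    obtain ⟨x, hx, y, hy, ht⟩ := h.fac (t * a)
    -- `t = x y a⁻¹ = (x a⁻¹) (a y a⁻¹)`, and `a y a⁻¹ = g (b⁻¹ y b) g⁻¹`
    refine ⟨x * a⁻¹, A.mul_mem hx (A.inv_mem ha), a * y * a⁻¹, ⟨b⁻¹ * y * b, B.mul_mem (B.mul_mem (B.inv_mem hb) hy) hb,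
      ?_⟩, ?_⟩
    · show g * (b⁻¹ * y * b) * g⁻¹ = a * y * a⁻¹
      rw [hg]
      group
    · have : t = x * y * a⁻¹ := by rw [← ht]; group
      rw [this]
      group

/-- `S × S` embeds in `A` -/
theorem Fac.exists_hom (h : Fac T A B S l) : ∃ φ : S × S →* T, Function.Injective φ ∧ ∀ x, φ x ∈ A := by
  obtain ⟨e⟩ := h.iso
  have h2 := h.two_le
  let i : Fin l := ⟨0, by omega⟩
  let j : Fin l := ⟨1, by omega⟩
  have hij : i ≠ j := by simp [i, j]
  let ψ : S × S →* (Fin l → S) := MonoidHom.noncommCoprod (MonoidHom.mulSingle (fun _ : Fin l => S) i)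
    (MonoidHom.mulSingle (fun _ : Fin l => S) j) (fun a b => Pi.mulSingle_commute (f := fun _ : Fin l => S) hij a b)
  have hψ : Function.Injective ψ := by
    rw [injective_iff_map_eq_one]
    rintro ⟨a, b⟩ hab
    have hab' : (Pi.mulSingle i a : Fin l → S) * Pi.mulSingle j b = 1 := hab
    have h3 := congrFun hab' i
    have h4 := congrFun hab' j
    rw [Pi.mul_apply, Pi.mulSingle_eq_same, Pi.mulSingle_eq_of_ne (M := fun _ => S) hij, mul_one] at h3
    rw [Pi.mul_apply, Pi.mulSingle_eq_same, Pi.mulSingle_eq_of_ne (M := fun _ => S) hij.symm, one_mul] at h4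
    rw [show a = 1 from h3, show b = 1 from h4]
    rfl
  exact ⟨A.subtype.comp (e.symm.toMonoidHom.comp ψ),
    A.subtype_injective.comp (e.symm.injective.comp hψ), fun x => SetLike.coe_mem _⟩

end basic

section nofac

variable {T : Type} [Group T] [Finite T]

omit [Finite T] in
theorem noFac_of_iGap (h : ∀ M : Subgroup T, IsCoatom M → IGap T M) : NoFac T :=
  fun _ _ _ _ _ _ M _ hM hF => hF.not_iGap (h M hM)

omit [Finite T] in
theorem noFac_of_cGapMax (h : CGapMax T) : NoFac T := noFac_of_iGap fun M hM => (h M hM).iGap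

/-- a transfer to all universes -/
theorem NoFac.out (h : NoFac T) {T' : Type*} [Group T'] (e : T' ≃* T) {S : Type*} [Group S] [Finite S]
    (hS : IsSimpleGroup S) (hSna : ¬ IsMulCommutative S) {A B : Subgroup T'} {l : ℕ} (hF : Fac T' A B S l) : False := by
  have hF1 := hF.congr e
  obtain ⟨φ, hφ, -⟩ := hF1.exists_hom
  -- a copy of `S` in `T`
  let ι : S →* S × S := MonoidHom.inl S S
  have hι : Function.Injective ι := fun a b hab => congrArg Prod.fst hab
  let e1 : S ≃* (φ.comp ι).range := (φ.comp ι).ofInjective (hφ.comp hι)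
  obtain ⟨M, hM, hBM⟩ := (eq_top_or_exists_le_coatom (B.map e.toMonoidHom)).resolve_left hF1.ne_top
  have : Finite (φ.comp ι).range := inferInstance
  refine h (φ.comp ι).range ?_ ?_ _ M l hM ((hF1.congr_right e1).mono hBM hM.1)
  · exact e1.symm.isSimpleGroup
  · intro hc
    apply hSna
    refine ⟨⟨fun a b => e1.injective ?_⟩⟩
    rw [map_mul, map_mul]
    exact hc.is_comm.comm _ _

end nofac

end Cfsg.Agent.H899.CG
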