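import Cfsg.Agent.H899.Cyc.Defs
import Cfsg.Agent.H436.Ppd

/-!
# Cyclic primes: the index version (helper899, for S3679 and S3561)

* `IGap T M` : some `Cyc` prime of `T` divides the index of `M`; `CGap.iGap`.
* `NDF q u` : `u` does not divide the exponent of `q = p ^ a`.
* `exists_prim_ndf` : primitive primes `u` of `q ^ e - 1` with `NDF q u`, for all `e ≥ 3`, `(q, e) ≠ (2, 6)`.
-/

set_option autoImplicit false

namespace Cfsg.Agent.H899.CG

open Subgroup Cfsg.Agent.H436

/-- some cyclic prime of `T` divides the index of `M` -/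
def IGap (T : Type*) [Group T] (M : Subgroup T) : Prop := ∃ u, Cyc T u ∧ u ∣ M.index

section basic

variable {T : Type*} [Group T] {M K : Subgroup T} {u : ℕ}

theorem CGap.iGap (h : CGap T M) : IGap T M := by
  obtain ⟨u, hu, hd⟩ := h
  refine ⟨u, hu, ?_⟩
  have h1 := hu.1.2.1
  rw [← Subgroup.card_mul_index M] at h1
  exact (hu.1.1.dvd_mul.mp h1).resolve_left hd

theorem IGap.mono (h : IGap T K) (hMK : M ≤ K) : IGap T M := by
  obtain ⟨u, hu, hd⟩ := h
  exact ⟨u, hu, hd.trans (Subgroup.index_dvd_of_le hMK)⟩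

/-- without an index gap `M` contains the full `u`-part of the order -/
theorem pow_dvd_of_not_iGap (h : ¬ IGap T M) (hu : Cyc T u) {k : ℕ} (hk : u ^ k ∣ Nat.card T) :
    u ^ k ∣ Nat.card M := by
  have h1 : ¬ u ∣ M.index := fun hd => h ⟨u, hu, hd⟩
  rw [← Subgroup.card_mul_index M] at hk
  exact (Nat.Coprime.pow_left k ((Nat.Prime.coprime_iff_not_dvd hu.1.1).mpr h1)).dvd_of_dvd_mul_right hk

theorem dvd_of_not_iGap (h : ¬ IGap T M) (hu : Cyc T u) : u ∣ Nat.card M := by
  have := pow_dvd_of_not_iGap h hu (k := 1) (by rw [pow_one]; exact hu.1.2.1)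
  rwa [pow_one] at this

theorem index_comap_equiv {S : Type*} [Group S] (e : T ≃* S) (K : Subgroup S) :
    (K.comap e.toMonoidHom).index = K.index :=
  Subgroup.index_comap_of_surjective _ e.surjective

theorem IGap.congr {S : Type*} [Group S] {K : Subgroup S} (e : T ≃* S) (h : IGap T (K.comap e.toMonoidHom)) :
    IGap S K := by
  obtain ⟨u, h1, h2⟩ := h
  exact ⟨u, h1.congr e, by rwa [index_comap_equiv] at h2⟩

end basic

/-- in a factorization `T = A B`, `A ≅ S^l`, `l ≥ 2`, `B` has no index gap -/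
theorem not_iGap_of_fac {T : Type*} [Group T] [Finite T] {S : Type*} [Group S] [Finite S] {l : ℕ} (hl : 2 ≤ l)
    {A B : Subgroup T} (e : A ≃* (Fin l → S)) (hAB : ∀ t : T, ∃ x ∈ A, ∃ y ∈ B, t = x * y) {M : Subgroup T}
    (hBM : B ≤ M) : ¬ IGap T M := by
  rintro ⟨u, hu, hd⟩
  exact (dvd_card_of_fac hu.1 hl e hAB).1 (hd.trans (Subgroup.index_dvd_of_le hBM))

/-- `u` does not divide the exponent of `q = p ^ a` -/
def NDF (q u : ℕ) : Prop := ∀ p a : ℕ, p.Prime → q = p ^ a → ¬ u ∣ a

theorem ndf_of_lt {p f u : ℕ} (hp : p.Prime) (hf : 1 ≤ f) (hu : f < u) : NDF (p ^ f) u := by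
  intro p' a hp' h hd
  have h1 : p = p' := by
    have h2 : p ∣ p' ^ a := by rw [← h]; exact dvd_pow_self p (by omega)
    exact (Nat.prime_dvd_prime_iff_eq hp hp').1 (hp.dvd_of_dvd_pow h2)
  subst h1
  have h3 : f = a := Nat.pow_right_injective hp.two_le h
  subst h3
  have := Nat.le_of_dvd (by omega) hd
  omega

theorem ndf_iff {p f u : ℕ} (hp : p.Prime) (hf : 1 ≤ f) : NDF (p ^ f) u ↔ ¬ u ∣ f := by
  constructor
  · intro h
    exact h p f hp rfl
  · intro h p' a hp' he hd
    have h1 : p = p' := by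
      have h2 : p ∣ p' ^ a := by rw [← he]; exact dvd_pow_self p (by omega)
      exact (Nat.prime_dvd_prime_iff_eq hp hp').1 (hp.dvd_of_dvd_pow h2)
    subst h1
    have h3 : f = a := Nat.pow_right_injective hp.two_le he
    subst h3
    exact h hd

/-- a primitive prime is at least `e + 1` -/
theorem prim_lt {q e u : ℕ} (hq : 1 ≤ q) (h : Prim q e u) : e < u := by
  have hc : Nat.Coprime q u := ((Nat.Prime.coprime_iff_not_dvd h.prime).2 h.not_dvd).symm
  have h2 := Nat.ModEq.pow_totient hc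
  rw [Nat.totient_prime h.prime] at h2
  have h1 : u ∣ q ^ (u - 1) - 1 := (Nat.modEq_iff_dvd' (Nat.one_le_pow _ _ hq)).1 h2.symm
  have h3 := Nat.le_of_dvd (by have := h.prime.two_le; omega) ((h.dvd_iff _).1 h1)
  have := h.prime.two_le
  omega

/-- primitivity over the prime field implies primitivity -/
theorem prim_of_pow {p f e u : ℕ} (hf : 1 ≤ f) (h : Prim p (e * f) u) : Prim (p ^ f) e u := by
  refine ⟨h.prime, fun m => ?_, fun hd => h.not_dvd (h.prime.dvd_of_dvd_pow hd)⟩
  rw [← pow_mul, h.dvd_iff, mul_comm f m]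
  exact Nat.mul_dvd_mul_iff_right (by omega)

/-- **Primitive primes not dividing the field exponent.** -/
theorem exists_prim_ndf {q e : ℕ} (hq : IsPrimePow q) (he : 3 ≤ e) (h6 : ¬ (q = 2 ∧ e = 6)) :
    ∃ u, Prim q e u ∧ NDF q u := by
  obtain ⟨p, f, hp, hf, rfl⟩ := (isPrimePow_nat_iff q).1 hq
  by_cases hex : p = 2 ∧ e * f = 6
  · obtain ⟨rfl, h⟩ := hex
    have hf2 : f ≠ 1 := by
      rintro rfl
      exact h6 ⟨by norm_num, by omega⟩
    have hf3 : f = 2 := by
      have : e * f = 6 := h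
      have h1 : f ≤ 2 := by
        by_contra hcon
        push Not at hcon
        have := Nat.mul_le_mul he hcon
        omega
      omega
    subst hf3
    have he3 : e = 3 := by omega
    subst he3
    obtain ⟨u, hu⟩ := exists_prim (q := 2 ^ 2) (e := 3) (by norm_num) le_rfl (by norm_num)
    refine ⟨u, hu, ndf_of_lt Nat.prime_two (by norm_num) ?_⟩
    have := prim_lt (by norm_num) hu
    omega
  · obtain ⟨u, hu⟩ := exists_prim (q := p) (e := e * f) hp.two_le (by nlinarith) hex
    refine ⟨u, prim_of_pow hf hu, ndf_of_lt hp hf ?_⟩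
    have h1 := prim_lt hp.one_le hu
    have h2 : 1 * f ≤ e * f := Nat.mul_le_mul_right f (by omega)
    omega

end Cfsg.Agent.H899.CG
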